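import Mathlib
import Cfsg.Agent.CharInd.Ito
import Cfsg.Agent.CharGraph.PDegreeMain

/-!
Basic facts on character degrees: Ito's theorem in degree form and the normal abelian Sylow subgroup.
-/

set_option autoImplicit false

namespace Cfsg.Agent.CharDeg

open Cfsg

universe u
variable {G : Type u} [Group G] [Finite G]

theorem charDegree_dvd_index (A : Subgroup G) [A.Normal] (hA : ∀ a ∈ A, ∀ b ∈ A, a * b = b * a)
    (χ : IrrCharacter G) : charDegree (χ : G → ℂ) ∣ A.index := by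
  obtain ⟨n, ρ, hρ, e⟩ := χ.2
  have h := CharInd.finrank_dvd_index_of_comm_normal ρ A hA
  have hd : charDegree (χ : G → ℂ) = n := by
    rw [charDegree, ← e, Representation.char_one, Module.finrank_fin_fun]
    simp
  rw [hd]
  rwa [Module.finrank_fin_fun] at h

theorem normal_abelian_sylow_iff {p : ℕ} [Fact p.Prime] (hG : IsPSolvable p G) :
    (∃ P : Subgroup G, P.Normal ∧ (∀ x ∈ P, ∀ y ∈ P, x * y = y * x) ∧ IsPGroup p P ∧ ¬ p ∣ P.index) ↔
      ∀ χ : IrrCharacter G, ¬ p ∣ charDegree (χ : G → ℂ) := by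
  refine ⟨?_, fun h => ?_⟩
  · rintro ⟨P, hn, hc, -, hi⟩ χ hd
    exact hi (hd.trans (charDegree_dvd_index P hc χ))
  · obtain ⟨P⟩ := (inferInstance : Nonempty (Sylow p G))
    obtain ⟨hn, hc⟩ := (CharGraph.pSolvable_degree_bound hG P).1 (CharGraph.degP_eq_zero h)
    refine ⟨P, hn, fun x hx y hy => ?_, P.isPGroup', P.not_dvd_index⟩
    have := (commutator_eq_bot_iff_center_eq_top _).1 hc
    have h2 : (⟨y, hy⟩ : (P : Subgroup G)) * ⟨x, hx⟩ = ⟨x, hx⟩ * ⟨y, hy⟩ :=
      Subgroup.mem_center_iff.1 (this ▸ Subgroup.mem_top (⟨x, hx⟩ : (P : Subgroup G))) ⟨y, hy⟩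
    exact (congrArg Subtype.val h2).symm

end Cfsg.Agent.CharDeg
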