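import Cfsg.Agent.CharDeg.Basic
import Cfsg.Agent.CharExt.Linear
import Cfsg.Agent.CharExt.Inertia

/-!
Small tools for character degree arguments: degrees against abelian subgroups, the conjugation
action on linear characters of a normal subgroup, and the degree of characters over an extendible
linear character.
-/

set_option autoImplicit false
set_option linter.style.haveILetI false

noncomputable section

namespace Cfsg.Agent.CharDeg

open Cfsg
open scoped ComplexConjugate
open Cfsg.Agent.Char (irr_charDegree_spec)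

universe u
variable {G : Type u} [Group G] [Finite G]

theorem one_apply (χ : IrrCharacter G) : (χ : G → ℂ) 1 = (charDegree (χ : G → ℂ) : ℂ) :=
  (irr_charDegree_spec χ.2).2

theorem deg_pos (χ : IrrCharacter G) : 0 < charDegree (χ : G → ℂ) := by
  have h := Char.irr_one_ne_zero χ.2
  rw [one_apply, Nat.cast_ne_zero] at h
  exact Nat.pos_of_ne_zero h

theorem comm_of_forall_linear (h : ∀ χ : IrrCharacter G, charDegree (χ : G → ℂ) = 1) (a b : G) :
    a * b = b * a := by
  have hc : commutator G = ⊥ := by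
    by_contra hne
    obtain ⟨χ, hχ⟩ := CharGraph.exists_nonlinear_irr hne
    exact hχ (h χ)
  have hz := (commutator_eq_bot_iff_center_eq_top _).1 hc
  exact Subgroup.mem_center_iff.1 (hz ▸ Subgroup.mem_top b) a

theorem deg_eq_one_of_comm (hc : ∀ a b : G, a * b = b * a) (χ : IrrCharacter G) :
    charDegree (χ : G → ℂ) = 1 := by
  have h := Char.irr_degree_one_of_comm hc χ.2
  rw [one_apply] at h
  exact_mod_cast h

theorem deg_sq_le_card (χ : IrrCharacter G) : charDegree (χ : G → ℂ) ^ 2 ≤ Nat.card G := by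
  classical
  letI := Fintype.ofFinite G
  letI := Fintype.ofFinite (IrrCharacter G)
  have h : ∑ ψ : IrrCharacter G, charDegree (ψ : G → ℂ) ^ 2 = Nat.card G := by
    have := Char.sum_irr_degree_sq (G := G)
    simp only [one_apply] at this
    exact_mod_cast this
  exact h ▸ Finset.single_le_sum (f := fun ψ : IrrCharacter G => charDegree (ψ : G → ℂ) ^ 2)
    (fun _ _ => Nat.zero_le _) (Finset.mem_univ χ)

/-- A constituent of an induced character has at most its degree. -/
theorem deg_le_of_constituent [Fintype G] (T : Subgroup G) [Fintype T] {ψ : T → ℂ}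
    (hψ : IsIrrCharacter T ψ) (χ : IrrCharacter G)
    (h : classInner (fun t : T => (χ : G → ℂ) t) ψ ≠ 0) :
    (charDegree (χ : G → ℂ)) ≤ T.index * charDegree ψ := by
  classical
  have hind := CharInd.isCharacter_indFun T (Char.isCharacter_of_irr hψ)
  obtain ⟨a, ha⟩ := Char.isCharacter_classInner_nat hind χ
  have ha0 : 0 < a := by
    refine Nat.pos_of_ne_zero fun h0 => h ?_
    rw [h0, Nat.cast_zero, CharInd.classInner_indFun_left T ψ (Char.irr_isClassFunction χ.2)] at ha
    rw [← Char.classInner_conj, ha, map_zero]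
  obtain ⟨r, hr⟩ := Char.isCharacter_one_nat (Char.isCharacter_sub_constituent hind ha0 ha)
  rw [Pi.sub_apply, CharInd.indFun_one_apply, one_apply, (irr_charDegree_spec hψ).2] at hr
  have h2 : ((T.index * charDegree ψ : ℕ) : ℂ) = ((r + charDegree (χ : G → ℂ) : ℕ) : ℂ) := by
    push_cast
    linear_combination hr
  have h3 : T.index * charDegree ψ = r + charDegree (χ : G → ℂ) := by exact_mod_cast h2
  omega

/-- Degrees are at most the index of an abelian subgroup. -/
theorem deg_le_index_of_comm (H : Subgroup G) (hH : ∀ a ∈ H, ∀ b ∈ H, a * b = b * a)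
    (χ : IrrCharacter G) : charDegree (χ : G → ℂ) ≤ H.index := by
  letI := Fintype.ofFinite G
  letI := Fintype.ofFinite H
  obtain ⟨ψ, n, hn, hψ⟩ := Char.exists_irr_constituent
    (CharInd.isCharacter_res H (Char.isCharacter_of_irr χ.2))
    (fun h => Char.irr_one_ne_zero χ.2 (congrFun h 1))
  have h1 := deg_le_of_constituent H ψ.2 χ (by rw [hψ]; exact_mod_cast hn.ne')
  rwa [deg_eq_one_of_comm (fun a b : H => Subtype.ext (hH a a.2 b b.2)) ψ, mul_one] at h1

/-- Degrees of a normal subgroup divide degrees of the group. -/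
theorem exists_deg_dvd (N : Subgroup G) [N.Normal] (θ : IrrCharacter N) :
    ∃ χ : IrrCharacter G, charDegree (θ : N → ℂ) ∣ charDegree (χ : G → ℂ) := by
  letI := Fintype.ofFinite G
  letI := Fintype.ofFinite N
  obtain ⟨χ, hχ⟩ := CharGraph.exists_irr_over N θ
  exact ⟨χ, (CharDeep.degree_ratio_dvd_index N χ.2 θ.2 hχ
    (irr_charDegree_spec χ.2).2 (irr_charDegree_spec θ.2).2).1⟩

section LinAction

variable (A : Subgroup G) [A.Normal]

/-- Conjugation on linear characters of a normal subgroup. -/
def cjl (g : G) (w : A →* ℂˣ) : A →* ℂˣ := w.comp (MulAut.conjNormal g).toMonoidHom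

variable {A}

theorem cjl_apply (g : G) (w : A →* ℂˣ) (a : A) : cjl A g w a = w (MulAut.conjNormal g a) := rfl

theorem cjl_cjl (g h : G) (w : A →* ℂˣ) : cjl A g (cjl A h w) = cjl A (h * g) w := by
  ext a
  simp only [cjl_apply, map_mul, MulAut.mul_apply]

@[simp] theorem cjl_one (w : A →* ℂˣ) : cjl A 1 w = w := by
  ext a
  simp [cjl_apply]

theorem cjl_mul (g : G) (w w' : A →* ℂˣ) : cjl A g (w * w') = cjl A g w * cjl A g w' := rfl

theorem cjl_pow (g : G) (w : A →* ℂˣ) (n : ℕ) : cjl A g (w ^ n) = cjl A g w ^ n := by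
  ext a
  rfl

theorem cjl_inv (g : G) (w : A →* ℂˣ) : cjl A g w⁻¹ = (cjl A g w)⁻¹ := rfl

variable (A) in
/-- The stabiliser of a linear character. -/
def lstab (w : A →* ℂˣ) : Subgroup G where
  carrier := {g | cjl A g w = w}
  one_mem' := cjl_one w
  mul_mem' := fun {a b} ha hb => by
    show cjl A (a * b) w = w
    rw [← cjl_cjl, Set.mem_ofPred.1 ha, Set.mem_ofPred.1 hb]
  inv_mem' := fun {a} ha => by
    show cjl A a⁻¹ w = w
    conv_lhs => rw [← (Set.mem_ofPred.1 ha : cjl A a w = w)]
    rw [cjl_cjl, mul_inv_cancel, cjl_one]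

theorem mem_lstab {g : G} {w : A →* ℂˣ} : g ∈ lstab A w ↔ cjl A g w = w := Iff.rfl

theorem le_lstab (w : A →* ℂˣ) : A ≤ lstab A w := by
  intro g hg
  rw [mem_lstab]
  ext a
  have : MulAut.conjNormal g a = (⟨g, hg⟩ : A) * a * (⟨g, hg⟩ : A)⁻¹ := Subtype.ext (by simp)
  rw [cjl_apply, this, map_mul, map_mul, map_inv, mul_comm (w _) (w a), mul_assoc, mul_inv_cancel,
    mul_one]

/-- Linear characters of an abelian group separate points. -/
theorem exists_lin_ne {B : Type u} [Group B] [Finite B] (hc : ∀ a b : B, a * b = b * a) {x : B}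
    (hx : x ≠ 1) : ∃ w : B →* ℂˣ, w x ≠ 1 := by
  obtain ⟨χ, hχ⟩ := Char.exists_irr_ne_degree hx
  obtain ⟨w, hw⟩ := Char.irr_exists_monoidHom_of_comm hc χ.2
  refine ⟨w, fun h => hχ ?_⟩
  simp only [hw, h, map_one]

/-- An element fixing all linear characters of an abelian normal subgroup centralises it. -/
theorem mem_centralizer_of_forall_lstab (hA : ∀ a ∈ A, ∀ b ∈ A, a * b = b * a) {g : G}
    (h : ∀ w : A →* ℂˣ, g ∈ lstab A w) : g ∈ Subgroup.centralizer (A : Set G) := by
  rw [Subgroup.mem_centralizer_iff]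
  intro a ha
  by_contra hne
  have hx : (⟨a, ha⟩ : A)⁻¹ * MulAut.conjNormal g ⟨a, ha⟩ ≠ 1 := fun h1 => hne (by
    have h2 := congrArg Subtype.val (inv_mul_eq_one.1 h1)
    simp only [MulAut.conjNormal_apply] at h2
    calc a * g = g * a * g⁻¹ * g := by rw [← h2]
      _ = g * a := by group)
  obtain ⟨w, hw⟩ := exists_lin_ne (fun a b : A => Subtype.ext (hA a a.2 b b.2)) hx
  apply hw
  rw [map_mul, map_inv, ← cjl_apply, mem_lstab.1 (h w), inv_mul_cancel]

theorem le_lstab_of_centralizer (w : A →* ℂˣ) : Subgroup.centralizer (A : Set G) ≤ lstab A w := by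
  intro g hg
  rw [mem_lstab]
  ext a
  have : MulAut.conjNormal g a = a := Subtype.ext (by
    simp only [MulAut.conjNormal_apply, ← Subgroup.mem_centralizer_iff.1 hg a a.2,
      mul_inv_cancel_right])
  rw [cjl_apply, this]

theorem inertia_linFun (w : A →* ℂˣ) :
    CharExt.inertia A (fun a => (w a : ℂ)) = lstab A w := by
  ext g
  rw [CharExt.mem_inertia, mem_lstab]
  constructor
  · intro h
    refine MonoidHom.ext fun a => Units.ext ?_
    have h1 := congrFun h a
    rw [CharInd.conjChar_apply] at h1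
    exact (congrArg (fun x => ((w x : ℂˣ) : ℂ)) (Subtype.ext (by simp) : _ = _)).trans h1
  · intro h
    funext a
    rw [CharInd.conjChar_apply]
    have h1 := congrArg (fun f : A →* ℂˣ => ((f a : ℂˣ) : ℂ)) h
    exact (congrArg (fun x => ((w x : ℂˣ) : ℂ)) (Subtype.ext (by simp) : _ = _)).trans h1

/-- Some degree is a multiple of the orbit length of any linear character. -/
theorem lstab_index_dvd (w : A →* ℂˣ) :
    ∃ χ : IrrCharacter G, (lstab A w).index ∣ charDegree (χ : G → ℂ) := by
  letI := Fintype.ofFinite G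
  letI := Fintype.ofFinite A
  have hw := Char.isIrrCharacter_monoidHom w
  obtain ⟨χ, hχ⟩ := CharGraph.exists_irr_over A ⟨_, hw⟩
  obtain ⟨e, -, -, -, hd⟩ := CharExt.clifford_data A χ.2 hw hχ
  rw [one_apply, map_one, Units.val_one, mul_one, inertia_linFun] at hd
  exact ⟨χ, Dvd.intro_left e (by exact_mod_cast hd.symm)⟩

/-- Over a linear character of coprime order, every character of the stabiliser quotient gives a
degree. -/
theorem exists_deg_eq_index_mul (w : A →* ℂˣ)
    (hcop : Nat.Coprime ((A.subgroupOf (lstab A w)).index) (orderOf w))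
    (β : IrrCharacter (lstab A w ⧸ A.subgroupOf (lstab A w))) :
    ∃ χ : IrrCharacter G,
      charDegree (χ : G → ℂ) = (lstab A w).index * charDegree (β : lstab A w ⧸ A.subgroupOf (lstab A w) → ℂ) := by
  classical
  letI := Fintype.ofFinite G
  set A' := A.subgroupOf (lstab A w)
  let e : A' ≃* A := Subgroup.subgroupOfEquivOfLe (le_lstab w)
  let w' : A' →* ℂˣ := w.comp e.toMonoidHom
  have hinv : ∀ (g : (lstab A w)) (n : A'), w' ⟨g * n * g⁻¹,
      (inferInstance : A'.Normal).conj_mem (n : (lstab A w)) n.2 g⟩ = w' n := by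
    intro g n
    refine Eq.trans ?_ (congrArg (fun f : A →* ℂˣ => f (e n)) (mem_lstab.1 g.2))
    exact congrArg w (Subtype.ext rfl)
  have hord : orderOf w' = orderOf w := by
    refine (orderOf_eq_orderOf_iff).2 fun n => ⟨fun h => ?_, fun h => ?_⟩
    · ext a
      obtain ⟨a', rfl⟩ := e.surjective a
      exact congrArg Units.val (DFunLike.congr_fun h a' : (w' ^ n) a' = 1)
    · ext a'
      exact congrArg Units.val (DFunLike.congr_fun h (e a') : (w ^ n) (e a') = 1)
  obtain ⟨μ, ⟨hμ, -⟩, -⟩ := CharExt.exists_unique_coprime_extension A' w' hinv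
    (hord.symm ▸ hcop)
  let βi := CharGraph.inflate A' β
  let ψ : (lstab A w) → ℂ := fun t => (βi : (lstab A w) → ℂ) t * (μ t : ℂ)
  have hψ : IsIrrCharacter (lstab A w) ψ := by
    have h := Char.isIrrCharacter_mul_monoidHom βi.2 μ
    first
      | exact h
      | (convert h using 1; funext t; simp [ψ, mul_comm])
  have hψd : charDegree ψ = charDegree (β : lstab A w ⧸ A.subgroupOf (lstab A w) → ℂ) := by
    rw [← CharGraph.charDegree_inflate A' β]
    simp [charDegree, ψ, βi]
  letI := Fintype.ofFinite (lstab A w)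
  letI := Fintype.ofFinite A
  obtain ⟨χ, hχ⟩ := CharGraph.exists_irr_over (lstab A w) ⟨ψ, hψ⟩
  refine ⟨χ, le_antisymm ((deg_le_of_constituent (lstab A w) hψ χ hχ).trans_eq (by rw [hψd])) ?_⟩
  -- the multiplicity of `w` in `χ` is at least the degree of `β`
  have hTc := CharInd.isCharacter_res (lstab A w) (Char.isCharacter_of_irr χ.2)
  obtain ⟨k, hk⟩ := Char.isCharacter_classInner_nat hTc ⟨ψ, hψ⟩
  have hk0 : 0 < k := Nat.pos_of_ne_zero fun h0 => hχ (by rw [h0, Nat.cast_zero] at hk; exact hk)
  have hsub := Char.isCharacter_sub_constituent hTc hk0 hk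
  have hincl := CharInd.isCharacter_comp (Subgroup.inclusion (le_lstab w) : A →* (lstab A w)) hsub
  have hw := Char.isIrrCharacter_monoidHom w
  obtain ⟨r, hr⟩ := Char.isCharacter_classInner_nat hincl ⟨_, hw⟩
  have hψA : ∀ a : A, ψ ⟨a, le_lstab w a.2⟩ = (charDegree (β : lstab A w ⧸ A.subgroupOf (lstab A w) → ℂ) : ℂ) * (w a : ℂ) := by
    intro a
    obtain ⟨a', rfl⟩ := e.surjective a
    have h1 : (⟨((e a' : A) : G), le_lstab w (e a').2⟩ : (lstab A w)) = (a' : (lstab A w)) := Subtype.ext rfl
    rw [h1]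
    show (βi : (lstab A w) → ℂ) a' * (μ a' : ℂ) = _
    rw [hμ a', CharGraph.inflate_apply, (QuotientGroup.eq_one_iff (a' : (lstab A w))).2 a'.2, one_apply]
    rfl
  have hsplit : classInner (fun a : A => (χ : G → ℂ) a) (fun a => (w a : ℂ)) =
      ((r + charDegree (β : lstab A w ⧸ A.subgroupOf (lstab A w) → ℂ) : ℕ) : ℂ) := by
    have e1 : (fun a : A => (χ : G → ℂ) a) =
        (fun a : A => ((fun t : (lstab A w) => (χ : G → ℂ) t) - ψ) (Subgroup.inclusion (le_lstab w) a)) +
          (charDegree (β : lstab A w ⧸ A.subgroupOf (lstab A w) → ℂ) : ℂ) • (fun a : A => (w a : ℂ)) := by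
      funext a
      simp only [Pi.add_apply, Pi.sub_apply, Pi.smul_apply, smul_eq_mul, ← hψA]
      exact (sub_add_cancel _ _).symm
    rw [e1, Char.classInner_add_left, Char.classInner_smul_left, Char.classInner_irr_self hw,
      mul_one, hr]
    push_cast
    rfl
  have hne : classInner (fun a : A => (χ : G → ℂ) a) (fun a => (w a : ℂ)) ≠ 0 := by
    rw [hsplit, Nat.cast_ne_zero]
    have := deg_pos β
    omega
  obtain ⟨f, -, hf, -, hd⟩ := CharExt.clifford_data A χ.2 hw hne
  rw [hsplit] at hf
  have hf' : r + charDegree (β : lstab A w ⧸ A.subgroupOf (lstab A w) → ℂ) = f := by exact_mod_cast hf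
  rw [one_apply, map_one, Units.val_one, mul_one, inertia_linFun] at hd
  have hd' : charDegree (χ : G → ℂ) = f * (lstab A w).index := by exact_mod_cast hd
  rw [hd', mul_comm f]
  exact Nat.mul_le_mul_left _ (by omega)

end LinAction

end Cfsg.Agent.CharDeg
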